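import Mathlib
import Cfsg.Agent.Lib.Chev.Coxeter

/-!
The Hecke operators of a finite group with the exchange condition, with a positive real parameter, and the
constancy of the dimension of their centre: the operator `h ↦ ∑ t^(-ℓ w) T_w h T_(w⁻¹)` has the centre as its image, so
the dimension of the centre is both lower and upper semicontinuous in the parameter.
-/

set_option autoImplicit false
set_option linter.unusedSectionVars false

namespace Cfsg.Lib.Chev.Hecke

open Cfsg.Lib.Chev Module
open scoped ComplexConjugate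

/-- Involutive generators satisfying the exchange condition. -/
structure ExSys {ι W : Type*} [Group W] (S : ι → W) : Prop where
  sq : ∀ i, S i * S i = 1
  gen : Subgroup.closure (Set.range S) = ⊤
  ex : Exchange S

variable {ι W : Type*} [Group W] {S : ι → W}

variable (S) in
/-- The length of an element. -/
noncomputable def len (w : W) : ℕ := sInf {k | ∃ a : List ι, a.length = k ∧ wprod S a = w}

theorem len_le (a : List ι) : len S (wprod S a) ≤ a.length := Nat.sInf_le ⟨a, rfl, rfl⟩

theorem wprod_reverse_inv (hS : ExSys S) (a : List ι) : wprod S a.reverse = (wprod S a)⁻¹ := by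
  induction a with
  | nil => simp [wprod]
  | cons i a ih =>
    rw [List.reverse_cons, wprod_append, ih, wprod_cons S i a, mul_inv_rev, inv_eq_of_mul_eq_one_left (hS.sq i)]
    simp [wprod]

section basic

variable (hS : ExSys S)
include hS

theorem inv_gen (i : ι) : (S i)⁻¹ = S i := inv_eq_of_mul_eq_one_left (hS.sq i)

theorem exists_len (w : W) : ∃ a : List ι, a.length = len S w ∧ wprod S a = w := by
  obtain ⟨a, -, ha⟩ := exists_wreduced hS.sq hS.gen w
  exact Nat.sInf_mem (s := {k | ∃ a : List ι, a.length = k ∧ wprod S a = w}) ⟨_, a, rfl, ha⟩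

theorem wreduced_of_len {a : List ι} (h : a.length = len S (wprod S a)) : WReduced S a := fun b hb => by
  rw [h, ← hb]; exact len_le b

theorem len_mul_le (i : ι) (w : W) : len S (S i * w) ≤ len S w + 1 := by
  obtain ⟨a, ha, rfl⟩ := exists_len hS w
  rw [← wprod_cons, ← ha]
  exact len_le (i :: a)

theorem len_le_mul (i : ι) (w : W) : len S w ≤ len S (S i * w) + 1 := by
  have := len_mul_le hS i (S i * w)
  rwa [← mul_assoc, hS.sq, one_mul] at this

theorem len_cases (i : ι) (w : W) : len S (S i * w) = len S w + 1 ∨ len S (S i * w) + 1 = len S w := by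
  have h1 := len_le_mul hS i w
  obtain ⟨a, ha, rfl⟩ := exists_len hS w
  rw [← wprod_cons]
  by_cases h : WReduced S (i :: a)
  · left
    obtain ⟨b, hb, e⟩ := exists_len hS (wprod S (i :: a))
    have := h b e
    have := len_le (S := S) (i :: a)
    simp only [List.length_cons] at *
    omega
  · right
    obtain ⟨k, hk, e⟩ := hS.ex i a (wreduced_of_len hS ha) h
    have := len_le (S := S) (a.eraseIdx k)
    rw [← e, List.length_eraseIdx_of_lt hk] at this
    rw [← wprod_cons] at h1
    omega

theorem len_inv (w : W) : len S w⁻¹ = len S w := by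
  have h : ∀ v : W, len S v⁻¹ ≤ len S v := fun v => by
    obtain ⟨a, ha, rfl⟩ := exists_len hS v
    rw [← wprod_reverse_inv hS, ← ha, ← List.length_reverse (as := a)]
    exact len_le _
  exact le_antisymm (h w) (by simpa using h w⁻¹)

theorem len_one : len S (1 : W) = 0 := by
  simpa [wprod] using len_le (S := S) ([] : List ι)

theorem eq_one_of_len {w : W} (h : len S w = 0) : w = 1 := by
  obtain ⟨a, ha, rfl⟩ := exists_len hS w
  rw [h, List.length_eq_zero_iff] at ha
  simp [ha, wprod]

theorem len_right_cases (j : ι) (w : W) : len S (w * S j) = len S w + 1 ∨ len S (w * S j) + 1 = len S w := by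
  have := len_cases hS j w⁻¹
  rwa [← inv_gen hS j, ← mul_inv_rev, len_inv hS, len_inv hS] at this

/-- If both one-sided products go up and the two-sided product does not, then they agree. -/
theorem eq_of_len {i j : ι} {w : W} (h1 : len S (S i * w) = len S w + 1) (h2 : len S (w * S j) = len S w + 1)
    (h3 : len S (S i * w * S j) = len S w) : S i * w = w * S j := by
  obtain ⟨a, ha, rfl⟩ := exists_len hS w
  have e0 : wprod S (a ++ [j]) = wprod S a * S j := by rw [wprod_append]; simp [wprod]
  have hr : WReduced S (a ++ [j]) := wreduced_of_len hS (by rw [e0, h2, List.length_append, ha]; rfl)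
  have hn : ¬ WReduced S (i :: (a ++ [j])) := fun h => by
    obtain ⟨b, hb, e⟩ := exists_len hS (wprod S (i :: (a ++ [j])))
    have := h b e
    rw [hb, wprod_cons, e0, ← mul_assoc, h3, List.length_cons, List.length_append, ha] at this
    omega
  obtain ⟨k, hk, e⟩ := hS.ex i _ hr hn
  rw [wprod_cons, e0] at e
  rw [List.length_append, List.length_singleton] at hk
  by_cases hka : k < a.length
  · rw [List.eraseIdx_append_of_lt_length hka, wprod_append] at e
    have e1 : S i * wprod S a = wprod S (a.eraseIdx k) := by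
      have e2 : wprod S [j] = S j := by simp [wprod]
      rw [e2, ← mul_assoc] at e
      exact mul_right_cancel e
    have := len_le (S := S) (a.eraseIdx k)
    rw [← e1, h1, List.length_eraseIdx_of_lt hka] at this
    omega
  · rw [List.eraseIdx_append_of_length_le (by omega), show k - a.length = 0 by omega] at e
    simp only [List.eraseIdx_cons_zero, List.append_nil] at e
    conv_rhs => rw [← e]
    rw [← mul_assoc, mul_assoc _ (S j), hS.sq, mul_one]

theorem left_desc_stable {i j : ι} {w : W} (hne : S i * w ≠ w * S j) :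
    (len S (S i * (w * S j)) < len S (w * S j) ↔ len S (S i * w) < len S w) ∧
      (len S (S i * w * S j) < len S (S i * w) ↔ len S (w * S j) < len S w) := by
  have c1 := len_cases hS i w
  have c2 := len_right_cases hS j w
  have c3 := len_cases hS i (w * S j)
  have c4 := len_right_cases hS j (S i * w)
  rw [← mul_assoc] at c3 ⊢
  by_contra hcon
  have hkey : len S (S i * w * S j) = len S w ∧
      ((len S (S i * w) = len S w + 1 ∧ len S (w * S j) = len S w + 1) ∨
        (len S (S i * w) + 1 = len S w ∧ len S (w * S j) + 1 = len S w)) := by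
    omega
  obtain ⟨h3, ⟨h1, h2⟩ | ⟨h1, h2⟩⟩ := hkey
  · exact hne (eq_of_len hS h1 h2 h3)
  · have e1 : S i * (S i * w) = w := by rw [← mul_assoc, hS.sq, one_mul]
    have e2 : S i * (S i * w) * S j = w * S j := by rw [e1]
    have := eq_of_len hS (i := i) (j := j) (w := S i * w) (by rw [e1]; omega) (by rw [h3]; omega) (by rw [e2]; omega)
    rw [e1] at this
    apply hne
    conv_rhs => rw [this, mul_assoc, hS.sq, mul_one]

end basic

variable (S) in
/-- A reduced word of an element. -/
noncomputable def red (hS : ExSys S) (w : W) : List ι := (exists_len hS w).choose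

theorem red_spec (hS : ExSys S) (w : W) : (red S hS w).length = len S w ∧ wprod S (red S hS w) = w :=
  (exists_len hS w).choose_spec

/-- The flip `f ↦ (w ↦ f w⁻¹)`. -/
noncomputable def flipW : (W → ℂ) →ₗ[ℂ] (W → ℂ) := LinearMap.funLeft ℂ ℂ (fun w : W => w⁻¹)

theorem flipW_apply (z : W → ℂ) (w : W) : flipW z w = z w⁻¹ := rfl

theorem flipW_flipW (z : W → ℂ) : flipW (flipW z) = z := funext fun w => by simp [flipW_apply]

variable (S) in
/-- Left multiplication by a generator. -/
noncomputable def L (t : ℝ) (i : ι) : (W → ℂ) →ₗ[ℂ] (W → ℂ) where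
  toFun z w := if len S (S i * w) < len S w then z (S i * w) + ((t : ℂ) - 1) * z w else (t : ℂ) * z (S i * w)
  map_add' z y := funext fun w => by simp only [Pi.add_apply]; split_ifs <;> ring
  map_smul' c z := funext fun w => by
    simp only [Pi.smul_apply, smul_eq_mul, RingHom.id_apply]; split_ifs <;> ring

variable (S) in
/-- Right multiplication by a generator. -/
noncomputable def R (t : ℝ) (i : ι) : (W → ℂ) →ₗ[ℂ] (W → ℂ) := flipW ∘ₗ L S t i ∘ₗ flipW

theorem L_apply (t : ℝ) (i : ι) (z : W → ℂ) (w : W) : L S t i z w =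
    if len S (S i * w) < len S w then z (S i * w) + ((t : ℂ) - 1) * z w else (t : ℂ) * z (S i * w) := rfl

theorem R_flip (t : ℝ) (i : ι) (z : W → ℂ) : R S t i z = flipW (L S t i (flipW z)) := rfl

theorem R_apply (hS : ExSys S) (t : ℝ) (i : ι) (z : W → ℂ) (w : W) : R S t i z w =
    if len S (w * S i) < len S w then z (w * S i) + ((t : ℂ) - 1) * z w else (t : ℂ) * z (w * S i) := by
  have e : S i * w⁻¹ = (w * S i)⁻¹ := by rw [mul_inv_rev, inv_gen hS]
  rw [R_flip, flipW_apply, L_apply, flipW_apply, flipW_apply, e, len_inv hS, len_inv hS, inv_inv, inv_inv]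

theorem L_comm (hS : ExSys S) (t : ℝ) (i j : ι) (z : W → ℂ) : L S t i (R S t j z) = R S t j (L S t i z) := by
  funext w
  rw [L_apply, R_apply hS, R_apply hS, R_apply hS, L_apply, L_apply]
  have e : S i * (w * S j) = S i * w * S j := (mul_assoc _ _ _).symm
  have c1 := len_cases hS i w
  by_cases hne : S i * w = w * S j
  · have e1 : S i * w * S j = w := by rw [hne, mul_assoc, hS.sq, mul_one]
    rw [e, e1, ← hne]
  · obtain ⟨h1, h2⟩ := left_desc_stable hS hne
    rw [e] at h1 ⊢
    simp only [h1, h2]
    split_ifs <;> ring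

variable (S) in
/-- Left multiplication by a word. -/
noncomputable def Lword (t : ℝ) : List ι → ((W → ℂ) →ₗ[ℂ] (W → ℂ))
  | [] => LinearMap.id
  | i :: a => L S t i ∘ₗ Lword t a

theorem Lword_append (t : ℝ) (a b : List ι) : Lword S t (a ++ b) = Lword S t a ∘ₗ Lword S t b := by
  induction a with
  | nil => rfl
  | cons i a ih => rw [List.cons_append, Lword, ih, Lword, LinearMap.comp_assoc]

theorem Lword_comm (hS : ExSys S) (t : ℝ) (a : List ι) (j : ι) (z : W → ℂ) :
    Lword S t a (R S t j z) = R S t j (Lword S t a z) := by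
  induction a with
  | nil => rfl
  | cons i a ih => simp only [Lword, LinearMap.comp_apply, ih, L_comm hS]

variable (S) in
/-- `T_w`. -/
noncomputable def Lw (hS : ExSys S) (t : ℝ) (w : W) : (W → ℂ) →ₗ[ℂ] (W → ℂ) := Lword S t (red S hS w)

section single

variable [DecidableEq W]

theorem L_single_up (hS : ExSys S) (t : ℝ) (i : ι) (v : W) (h : len S v < len S (S i * v)) :
    L S t i (Pi.single v 1) = Pi.single (S i * v) 1 := by
  funext w
  rw [L_apply]
  by_cases hw : w = S i * v
  · subst hw
    have e : S i * (S i * v) = v := by rw [← mul_assoc, hS.sq, one_mul]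
    rw [e, if_pos h, Pi.single_eq_same, Pi.single_eq_same,
      Pi.single_eq_of_ne (fun h' => by rw [h'] at h; omega), mul_zero, add_zero]
  · have e : S i * w ≠ v := fun h' => hw (by rw [← h', ← mul_assoc, hS.sq, one_mul])
    rw [Pi.single_eq_of_ne hw, Pi.single_eq_of_ne e, mul_zero, zero_add]
    split_ifs with h'
    · rw [Pi.single_eq_of_ne (fun hv => ?_), mul_zero]
      subst hv; omega
    · rfl

theorem L_single_down (hS : ExSys S) (t : ℝ) (i : ι) (v : W) (h : len S (S i * v) < len S v) :
    L S t i (Pi.single v 1) = (t : ℂ) • (Pi.single (S i * v) (1 : ℂ) : W → ℂ) + ((t : ℂ) - 1) • Pi.single v 1 := by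
  funext w
  rw [L_apply, Pi.add_apply, Pi.smul_apply, Pi.smul_apply, smul_eq_mul, smul_eq_mul]
  by_cases hw : w = S i * v
  · subst hw
    have e : S i * (S i * v) = v := by rw [← mul_assoc, hS.sq, one_mul]
    rw [e, if_neg (by omega), Pi.single_eq_same, Pi.single_eq_same,
      Pi.single_eq_of_ne (fun h' => by rw [h'] at h; omega)]
    ring
  · have e : S i * w ≠ v := fun h' => hw (by rw [← h', ← mul_assoc, hS.sq, one_mul])
    rw [Pi.single_eq_of_ne hw, Pi.single_eq_of_ne e]
    by_cases hv : w = v
    · subst hv; rw [if_pos h, Pi.single_eq_same]; ring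
    · rw [Pi.single_eq_of_ne hv]; split_ifs <;> ring

theorem Lword_single (hS : ExSys S) (t : ℝ) {a : List ι} (ha : a.length = len S (wprod S a)) :
    Lword S t a (Pi.single 1 1) = Pi.single (wprod S a) 1 := by
  induction a with
  | nil => simp [Lword, wprod]
  | cons i a ih =>
    have h1 := len_mul_le hS i (wprod S a)
    have h2 := len_le (S := S) a
    rw [wprod_cons, List.length_cons] at ha
    rw [Lword, LinearMap.comp_apply, ih (by omega), L_single_up hS t i _ (by omega), wprod_cons]

theorem Lw_single (hS : ExSys S) (t : ℝ) (w : W) : Lw S hS t w (Pi.single 1 1) = Pi.single w 1 := by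
  obtain ⟨h1, h2⟩ := red_spec hS w
  rw [Lw, Lword_single hS t (by rw [h2, h1]), h2]

theorem ext_R [Fintype W] (hS : ExSys S) (t : ℝ) {A B : (W → ℂ) →ₗ[ℂ] (W → ℂ)}
    (hA : ∀ j z, A (R S t j z) = R S t j (A z)) (hB : ∀ j z, B (R S t j z) = R S t j (B z))
    (h : A (Pi.single 1 1) = B (Pi.single 1 1)) : A = B := by
  have hflip : flipW (Pi.single (1 : W) (1 : ℂ)) = Pi.single (1 : W) 1 := by
    funext w
    rw [flipW_apply]
    by_cases hw : w = 1
    · subst hw; simp
    · rw [Pi.single_eq_of_ne (by simpa using hw), Pi.single_eq_of_ne hw]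
  have key : ∀ a : List ι, A (flipW (Lword S t a (Pi.single 1 1))) = B (flipW (Lword S t a (Pi.single 1 1))) := by
    intro a
    induction a with
    | nil => simpa [Lword, hflip] using h
    | cons i a ih =>
      have e : flipW (Lword S t (i :: a) (Pi.single 1 1)) = R S t i (flipW (Lword S t a (Pi.single 1 1))) := by
        rw [R_flip, flipW_flipW]; rfl
      rw [e, hA, hB, ih]
  refine LinearMap.pi_ext fun w c => ?_
  have hw : (Pi.single w c : W → ℂ) = c • flipW (Lw S hS t w⁻¹ (Pi.single 1 1)) := by
    funext v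
    rw [Lw_single, Pi.smul_apply, flipW_apply, smul_eq_mul]
    by_cases hv : v = w
    · subst hv; simp
    · rw [Pi.single_eq_of_ne hv, Pi.single_eq_of_ne (by simpa using hv), mul_zero]
  rw [hw, map_smul, map_smul, Lw, key]

theorem Lword_eq_Lw [Fintype W] (hS : ExSys S) (t : ℝ) {a : List ι} (ha : a.length = len S (wprod S a)) :
    Lword S t a = Lw S hS t (wprod S a) :=
  ext_R hS t (fun j z => Lword_comm hS t a j z) (fun j z => Lword_comm hS t _ j z)
    (by rw [Lword_single hS t ha, Lw_single])

theorem L_Lw_up [Fintype W] (hS : ExSys S) (t : ℝ) {i : ι} {w : W} (h : len S w < len S (S i * w)) :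
    L S t i ∘ₗ Lw S hS t w = Lw S hS t (S i * w) :=
  ext_R hS t (fun j z => Lword_comm hS t (i :: red S hS w) j z) (fun j z => Lword_comm hS t _ j z)
    (by rw [LinearMap.comp_apply, Lw_single, Lw_single, L_single_up hS t i w h])

theorem L_Lw_down [Fintype W] (hS : ExSys S) (t : ℝ) {i : ι} {w : W} (h : len S (S i * w) < len S w) :
    L S t i ∘ₗ Lw S hS t w = (t : ℂ) • Lw S hS t (S i * w) + ((t : ℂ) - 1) • Lw S hS t w := by
  refine ext_R hS t (fun j z => Lword_comm hS t (i :: red S hS w) j z) (fun j z => ?_) ?_
  · simp only [LinearMap.add_apply, LinearMap.smul_apply, Lw, Lword_comm hS, map_add, map_smul]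
  · simp only [LinearMap.add_apply, LinearMap.smul_apply, LinearMap.comp_apply, Lw_single]
    exact L_single_down hS t i w h

end single

/-! ### The centre -/

variable (S) in
/-- The commutators with the generators. -/
noncomputable def Kmap (t : ℝ) : (W → ℂ) →ₗ[ℂ] (ι → W → ℂ) := LinearMap.pi fun i => L S t i - R S t i

variable (S) in
/-- The centre. -/
noncomputable def centre (t : ℝ) : Submodule ℂ (W → ℂ) := LinearMap.ker (Kmap S t)

theorem mem_centre {t : ℝ} {z : W → ℂ} : z ∈ centre S t ↔ ∀ i, L S t i z = R S t i z := by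
  simp [centre, Kmap, funext_iff, sub_eq_zero, LinearMap.mem_ker]

theorem flip_Lword_centre (hS : ExSys S) {t : ℝ} {z : W → ℂ} (hz : z ∈ centre S t) (a : List ι) :
    flipW (Lword S t a (flipW z)) = Lword S t a.reverse z := by
  induction a with
  | nil => exact flipW_flipW z
  | cons i a ih =>
    have e : flipW (Lword S t (i :: a) (flipW z)) = R S t i (flipW (Lword S t a (flipW z))) := by
      rw [R_flip, flipW_flipW]; rfl
    rw [e, ih, ← Lword_comm hS, ← mem_centre.1 hz i, List.reverse_cons, Lword_append]
    rfl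

variable [Fintype W]

variable (S) in
/-- The averaging operator. -/
noncomputable def casimir (hS : ExSys S) (t : ℝ) : (W → ℂ) →ₗ[ℂ] (W → ℂ) :=
  ∑ w, (((t : ℂ) ^ len S w)⁻¹) • (Lw S hS t w ∘ₗ flipW ∘ₗ Lw S hS t w ∘ₗ flipW)

theorem casimir_apply (hS : ExSys S) (t : ℝ) (z : W → ℂ) : casimir S hS t z =
    ∑ w, (((t : ℂ) ^ len S w)⁻¹) • Lw S hS t w (flipW (Lw S hS t w (flipW z))) := by
  simp [casimir, LinearMap.sum_apply]

theorem casimir_mem_centre (hS : ExSys S) {t : ℝ} (ht : 0 < t) (z : W → ℂ) : casimir S hS t z ∈ centre S t := by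
  classical
  refine mem_centre.2 fun i => ?_
  rw [← sub_eq_zero, casimir_apply, map_sum, map_sum, ← Finset.sum_sub_distrib]
  set g : W → (W → ℂ) := fun w =>
    L S t i ((((t : ℂ) ^ len S w)⁻¹) • Lw S hS t w (flipW (Lw S hS t w (flipW z)))) -
      R S t i ((((t : ℂ) ^ len S w)⁻¹) • Lw S hS t w (flipW (Lw S hS t w (flipW z)))) with hg
  show ∑ w, g w = 0
  have hup : ∀ w, len S w < len S (S i * w) → g w + g (S i * w) = 0 := by
    intro w h
    have hlen : len S (S i * w) = len S w + 1 := by
      rcases len_cases hS i w with h' | h' <;> omega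
    have e : S i * (S i * w) = w := by rw [← mul_assoc, hS.sq, one_mul]
    have h' : len S (S i * (S i * w)) < len S (S i * w) := by rw [e]; exact h
    have eR : ∀ (v : W) (y : W → ℂ), R S t i (Lw S hS t v (flipW y)) = Lw S hS t v (flipW (L S t i y)) := by
      intro v y
      rw [Lw, ← Lword_comm hS, R_flip, flipW_flipW]
    have a1 : ∀ y, L S t i (Lw S hS t w y) = Lw S hS t (S i * w) y := fun y =>
      LinearMap.congr_fun (L_Lw_up hS t h) y
    have a2 : ∀ y, L S t i (Lw S hS t (S i * w) y) =
        (t : ℂ) • Lw S hS t w y + ((t : ℂ) - 1) • Lw S hS t (S i * w) y := fun y => by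
      have := LinearMap.congr_fun (L_Lw_down hS t h') y
      rw [e] at this
      exact this
    have h0 : (t : ℂ) ^ len S w ≠ 0 := pow_ne_zero _ (Complex.ofReal_ne_zero.2 ht.ne')
    have h1 : (t : ℂ) ≠ 0 := Complex.ofReal_ne_zero.2 ht.ne'
    simp only [hg, map_smul, eR, a1, a2, hlen, map_add]
    funext x
    simp only [Pi.add_apply, Pi.sub_apply, Pi.smul_apply, smul_eq_mul, Pi.zero_apply]
    rw [pow_succ]
    field_simp
    ring
  have hall : ∀ w, g w + g (S i * w) = 0 := fun w => by
    rcases len_cases hS i w with h | h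
    · exact hup w (by omega)
    · have e : S i * (S i * w) = w := by rw [← mul_assoc, hS.sq, one_mul]
      have := hup (S i * w) (by rw [e]; omega)
      rwa [e, add_comm] at this
  have h2 : ∑ w, g w + ∑ w, g w = 0 := by
    conv_lhs => arg 2; rw [← Equiv.sum_comp (Equiv.mulLeft (S i))]
    rw [← Finset.sum_add_distrib]
    exact Finset.sum_eq_zero fun w _ => hall w
  rw [← two_smul ℂ] at h2
  exact (smul_eq_zero.1 h2).resolve_left two_ne_zero

variable (S) in
/-- The weighted inner product. -/
noncomputable def form (t : ℝ) (x y : W → ℂ) : ℂ := ∑ w, (t : ℂ) ^ len S w * (x w * conj (y w))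

theorem L_selfAdjoint (hS : ExSys S) (t : ℝ) (i : ι) (x y : W → ℂ) :
    form S t (L S t i x) y = form S t x (L S t i y) := by
  rw [form, form, ← sub_eq_zero, ← Finset.sum_sub_distrib]
  set g : W → ℂ := fun w => (t : ℂ) ^ len S w * (L S t i x w * conj (y w)) -
    (t : ℂ) ^ len S w * (x w * conj (L S t i y w)) with hg
  show ∑ w, g w = 0
  have hup : ∀ w, len S w < len S (S i * w) → g w + g (S i * w) = 0 := by
    intro w h
    have hlen : len S (S i * w) = len S w + 1 := by
      rcases len_cases hS i w with h' | h' <;> omega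
    have e : S i * (S i * w) = w := by rw [← mul_assoc, hS.sq, one_mul]
    simp only [hg, L_apply, e, hlen, if_pos (show len S w < len S w + 1 by omega),
      if_neg (show ¬ len S w + 1 < len S w by omega)]
    simp only [map_add, map_mul, map_sub, Complex.conj_ofReal, map_one]
    ring
  have hall : ∀ w, g w + g (S i * w) = 0 := fun w => by
    rcases len_cases hS i w with h | h
    · exact hup w (by omega)
    · have e : S i * (S i * w) = w := by rw [← mul_assoc, hS.sq, one_mul]
      have := hup (S i * w) (by rw [e]; omega)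
      rwa [e, add_comm] at this
  have h2 : ∑ w, g w + ∑ w, g w = 0 := by
    conv_lhs => arg 2; rw [← Equiv.sum_comp (Equiv.mulLeft (S i))]
    rw [← Finset.sum_add_distrib]
    exact Finset.sum_eq_zero fun w _ => hall w
  exact add_self_eq_zero.1 h2

theorem Lword_adjoint (hS : ExSys S) (t : ℝ) (a : List ι) (x y : W → ℂ) :
    form S t (Lword S t a x) y = form S t x (Lword S t a.reverse y) := by
  induction a generalizing y with
  | nil => rfl
  | cons i a ih =>
    rw [Lword, LinearMap.comp_apply, L_selfAdjoint hS, ih, List.reverse_cons, Lword_append]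
    rfl

theorem casimir_inj (hS : ExSys S) {t : ℝ} (ht : 0 < t) {z : W → ℂ} (hz : z ∈ centre S t)
    (h : casimir S hS t z = 0) : z = 0 := by
  have hz0 : form S t (casimir S hS t z) z = 0 := by rw [h]; simp [form]
  have hre : ∀ y : W → ℂ, (form S t y y).re = ∑ w, t ^ len S w * ‖y w‖ ^ 2 := fun y => by
    rw [form, Complex.re_sum]
    refine Finset.sum_congr rfl fun w _ => ?_
    rw [Complex.mul_conj', ← Complex.ofReal_pow, ← Complex.ofReal_pow, ← Complex.ofReal_mul, Complex.ofReal_re]
  have hsum : form S t (casimir S hS t z) z = ∑ w, ((t : ℂ) ^ len S w)⁻¹ *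
      form S t (Lword S t (red S hS w).reverse z) (Lword S t (red S hS w).reverse z) := by
    simp only [← Lword_adjoint hS, casimir_apply, Lw, flip_Lword_centre hS hz]
    simp only [form, Finset.sum_apply, Pi.smul_apply, smul_eq_mul, Finset.sum_mul, Finset.mul_sum]
    rw [Finset.sum_comm]
    exact Finset.sum_congr rfl fun w _ => Finset.sum_congr rfl fun v _ => by ring
  have h0 := congrArg Complex.re (hsum.symm.trans hz0)
  simp only [Complex.re_sum, ← Complex.ofReal_pow, ← Complex.ofReal_inv, Complex.re_ofReal_mul, hre,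
    Complex.zero_re] at h0
  have hnn : ∀ y : W → ℂ, ∀ w, 0 ≤ t ^ len S w * ‖y w‖ ^ 2 := fun y w => by positivity
  have h1 := (Finset.sum_eq_zero_iff_of_nonneg (fun w _ => mul_nonneg (inv_nonneg.2 (pow_nonneg ht.le _))
    (Finset.sum_nonneg fun v _ => hnn _ v))).1 h0 1 (Finset.mem_univ _)
  have hr : red S hS (1 : W) = [] := by
    have := (red_spec hS (1 : W)).1
    rwa [len_one hS, List.length_eq_zero_iff] at this
  simp only [hr, len_one hS, pow_zero, inv_one, one_mul, List.reverse_nil, Lword, LinearMap.id_apply] at h1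
  funext v
  have := (Finset.sum_eq_zero_iff_of_nonneg (fun v _ => hnn z v)).1 h1 v (Finset.mem_univ _)
  simpa [ht.ne'] using this

theorem range_casimir (hS : ExSys S) {t : ℝ} (ht : 0 < t) : LinearMap.range (casimir S hS t) = centre S t := by
  have hle : LinearMap.range (casimir S hS t) ≤ centre S t := by
    rintro _ ⟨z, rfl⟩; exact casimir_mem_centre hS ht z
  refine Submodule.eq_of_le_of_finrank_le hle ?_
  let f : ↥(centre S t) →ₗ[ℂ] ↥(LinearMap.range (casimir S hS t)) :=
    (casimir S hS t).rangeRestrict ∘ₗ (centre S t).subtype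
  refine LinearMap.finrank_le_finrank_of_injective (f := f) ?_
  rw [← LinearMap.ker_eq_bot, LinearMap.ker_eq_bot']
  intro z hz
  exact Subtype.ext (casimir_inj hS ht z.2 (congrArg Subtype.val hz))

/-! ### Continuity -/

theorem continuous_L {z : ℝ → W → ℂ} (hz : Continuous z) (i : ι) : Continuous fun t => L S t i (z t) := by
  refine continuous_pi fun w => ?_
  simp only [L_apply]
  by_cases h : len S (S i * w) < len S w
  · simp only [if_pos h]
    exact (continuous_apply _ |>.comp hz).add
      (((Complex.continuous_ofReal).sub continuous_const).mul (continuous_apply _ |>.comp hz))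
  · simp only [if_neg h]
    exact Complex.continuous_ofReal.mul (continuous_apply _ |>.comp hz)

theorem continuous_flip {z : ℝ → W → ℂ} (hz : Continuous z) : Continuous fun t => flipW (z t) :=
  continuous_pi fun w => (continuous_apply w⁻¹).comp hz

theorem continuous_Lword {z : ℝ → W → ℂ} (hz : Continuous z) (a : List ι) :
    Continuous fun t => Lword S t a (z t) := by
  induction a with
  | nil => exact hz
  | cons i a ih => exact continuous_L ih i

theorem continuousOn_casimir (hS : ExSys S) (z : W → ℂ) :
    ContinuousOn (fun t => casimir S hS t z) (Set.Ioi 0) := by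
  simp only [casimir_apply, Lw]
  refine continuousOn_finsetSum _ fun w _ => ?_
  have h1 : ContinuousOn (fun t : ℝ => ((t : ℂ) ^ len S w)⁻¹) (Set.Ioi 0) :=
    ContinuousOn.inv₀ (Complex.continuous_ofReal.pow _).continuousOn
      fun t ht => pow_ne_zero _ (Complex.ofReal_ne_zero.2 (ne_of_gt ht))
  have h2 : Continuous fun t : ℝ => Lword S t (red S hS w) (flipW (Lword S t (red S hS w) (flipW z))) :=
    continuous_Lword (continuous_flip (continuous_Lword continuous_const _)) _
  exact h1.smul h2.continuousOn

theorem continuous_Kmap [Fintype ι] (z : W → ℂ) : Continuous fun t => Kmap S t z :=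
  continuous_pi fun i => by
    show Continuous fun t => L S t i z - flipW (L S t i (flipW z))
    exact (continuous_L continuous_const i).sub (continuous_flip (continuous_L continuous_const i))

theorem eventually_rank_ge {V X : Type*} [AddCommGroup V] [Module ℂ V] [FiniteDimensional ℂ V]
    [NormedAddCommGroup X] [NormedSpace ℂ X] [FiniteDimensional ℂ X]
    (A : ℝ → V →ₗ[ℂ] X) {s : Set ℝ} (hA : ∀ v, ContinuousOn (fun t => A t v) s) {t₀ : ℝ} (h₀ : t₀ ∈ s) :
    ∀ᶠ t in nhdsWithin t₀ s, finrank ℂ (LinearMap.range (A t₀)) ≤ finrank ℂ (LinearMap.range (A t)) := by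
  set d := finrank ℂ (LinearMap.range (A t₀))
  let b := Module.finBasis ℂ (LinearMap.range (A t₀))
  choose x hx using fun k => (b k).2
  have hli : LinearIndependent ℂ fun k => A t₀ (x k) := by
    simp only [hx]
    exact b.linearIndependent.map' _ (Submodule.ker_subtype _)
  have hc : ContinuousWithinAt (fun t => fun k => A t (x k)) s t₀ :=
    continuousWithinAt_pi.2 fun k => hA (x k) t₀ h₀
  filter_upwards [hc.eventually (isOpen_setOfPred_linearIndependent.mem_nhds hli)] with t ht
  have : LinearIndependent ℂ fun k => (⟨A t (x k), x k, rfl⟩ : LinearMap.range (A t)) :=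
    LinearIndependent.of_comp (LinearMap.range (A t)).subtype ht
  simpa using this.fintype_card_le_finrank

/-- The dimension of the centre does not depend on the parameter. -/
theorem finrank_centre_const [Fintype ι] (hS : ExSys S) {t : ℝ} (ht : 0 < t) :
    finrank ℂ (centre S t) = finrank ℂ (centre S 1) := by
  set d : ↥(Set.Ioi (0 : ℝ)) → ℕ := fun t => finrank ℂ (centre S (t : ℝ))
  have hloc : IsLocallyConstant d := by
    refine (IsLocallyConstant.iff_eventually_eq _).2 fun t₀ => ?_
    have h1 := eventually_rank_ge (fun t => casimir S hS t) (continuousOn_casimir hS) t₀.2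
    have h2 := eventually_rank_ge (fun t => Kmap S t) (fun v => (continuous_Kmap (S := S) v).continuousOn) t₀.2
    rw [← map_nhds_subtype_val, Filter.eventually_map] at h1 h2
    filter_upwards [h1, h2] with t h1 h2
    rw [range_casimir hS t.2, range_casimir hS t₀.2] at h1
    have e1 := LinearMap.finrank_range_add_finrank_ker (Kmap S (t : ℝ))
    have e2 := LinearMap.finrank_range_add_finrank_ker (Kmap S (t₀ : ℝ))
    show finrank ℂ (centre S (t : ℝ)) = finrank ℂ (centre S (t₀ : ℝ))
    unfold centre at *
    omega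
  have : PreconnectedSpace ↥(Set.Ioi (0 : ℝ)) := Subtype.preconnectedSpace isPreconnected_Ioi
  exact hloc.apply_eq_of_preconnectedSpace ⟨t, ht⟩ ⟨1, Set.mem_Ioi.2 one_pos⟩

theorem finrank_centre_one (hS : ExSys S) : finrank ℂ (centre S 1) = Nat.card (ConjClasses W) := by
  classical
  have hmem : ∀ z : W → ℂ, z ∈ centre S 1 ↔ ∀ i w, z (S i * w) = z (w * S i) := fun z => by
    rw [mem_centre]
    simp only [funext_iff, L_apply, R_apply hS, Complex.ofReal_one, sub_self, zero_mul, add_zero, one_mul, ite_self]
  have hconj : ∀ z ∈ centre S 1, ∀ g w : W, z (g * w) = z (w * g) := by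
    intro z hz g
    have hg : g ∈ Subgroup.closure (Set.range S) := by rw [hS.gen]; exact Subgroup.mem_top g
    induction hg using Subgroup.closure_induction with
    | mem x hx => obtain ⟨i, rfl⟩ := hx; exact (hmem z).1 hz i
    | one => intro w; rw [one_mul, mul_one]
    | mul a b _ _ ha hb => intro w; rw [mul_assoc, ha, mul_assoc b w a, hb, mul_assoc]
    | inv a _ ha =>
      intro w
      have := ha (a⁻¹ * w * a⁻¹)
      simpa [mul_assoc] using this.symm
  let T : (ConjClasses W → ℂ) →ₗ[ℂ] (W → ℂ) := LinearMap.funLeft ℂ ℂ ConjClasses.mk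
  have hT : LinearMap.range T = centre S 1 := by
    refine le_antisymm ?_ fun z hz => ?_
    · rintro _ ⟨f, rfl⟩
      refine (hmem _).2 fun i w => congrArg f (ConjClasses.mk_eq_mk_iff_isConj.2 ?_)
      exact isConj_iff.2 ⟨S i, by rw [inv_gen hS, ← mul_assoc, hS.sq, one_mul]⟩
    · refine ⟨Quotient.lift z fun a b h => ?_, funext fun w => rfl⟩
      obtain ⟨c, rfl⟩ := isConj_iff.1 h
      rw [mul_assoc, hconj z hz, mul_assoc, inv_mul_cancel, mul_one]
  rw [← hT, LinearMap.finrank_range_of_inj (LinearMap.funLeft_injective_of_surjective ℂ ℂ _ ConjClasses.exists_rep),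
    finrank_fintype_fun_eq_card, Nat.card_eq_fintype_card]

end Cfsg.Lib.Chev.Hecke
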