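import Mathlib
import Cfsg.Agent.Lib.Chev.Hecke.Algebra
import Cfsg.Agent.Lib.Char.Formulas
import Cfsg.Agent.Lib.Chev.Steinberg

/-!
The constituents of the permutation character on the cosets of `B` in a finite group with a `(B, N)`-pair with
constant parameter: as many as the Weyl group has conjugacy classes.
-/

set_option autoImplicit false
set_option linter.unusedSectionVars false

namespace Cfsg.Lib.Chev.Hecke

open Cfsg Cfsg.Lib.Chev Cfsg.Lib.Char Module
open scoped ComplexConjugate

variable {G : Type*} [Group G]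

section sums

variable (B : Subgroup G) [Fintype ↥B]

/-- Sum over `x B g`. -/
def lsum (x : G) (f : G → ℂ) (g : G) : ℂ := ∑ b : ↥B, f (x * b * g)

/-- Sum over `g B x`. -/
def rsum (x : G) (f : G → ℂ) (g : G) : ℂ := ∑ b : ↥B, f (g * b * x)

/-- The bi-invariant functions commuting with every double coset. -/
def gCentre : Submodule ℂ (G → ℂ) where
  carrier := {f | (∀ (b c : ↥B) (g : G), f (b * g * c) = f g) ∧ ∀ x g, lsum B x f g = rsum B x f g}
  add_mem' := fun {a b} ha hb => ⟨fun c d g => by simp [ha.1 c d g, hb.1 c d g],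
    fun x g => by
      have e1 := ha.2 x g
      have e2 := hb.2 x g
      simp only [lsum, rsum, Pi.add_apply, Finset.sum_add_distrib] at *
      rw [e1, e2]⟩
  zero_mem' := ⟨fun _ _ _ => rfl, fun x g => by simp [lsum, rsum]⟩
  smul_mem' := fun k f hf => ⟨fun c d g => by simp [hf.1 c d g],
    fun x g => by
      have e1 := hf.2 x g
      simp only [lsum, rsum, Pi.smul_apply, smul_eq_mul, ← Finset.mul_sum] at *
      rw [e1]⟩

variable {B}

theorem inv_right {f : G → ℂ} (hf : ∀ (b c : ↥B) (g : G), f (b * g * c) = f g) (g : G) (c : ↥B) :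
    f (g * c) = f g := by simpa using hf 1 c g

theorem inv_left {f : G → ℂ} (hf : ∀ (b c : ↥B) (g : G), f (b * g * c) = f g) (g : G) (c : ↥B) :
    f (c * g) = f g := by simpa using hf c 1 g

theorem lsum_coset {f : G → ℂ} (hf : ∀ (b c : ↥B) (g : G), f (b * g * c) = f g) {x y g : G} (c d : ↥B)
    (e : y = c * x * d) : lsum B y f g = lsum B x f g := by
  subst e
  refine Fintype.sum_equiv (Equiv.mulLeft d) _ _ fun b => ?_
  rw [Equiv.coe_mulLeft, Subgroup.coe_mul, show (c : G) * x * d * b * g = c * (x * (d * b) * g) by group,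
    inv_left hf]

theorem rsum_coset {f : G → ℂ} (hf : ∀ (b c : ↥B) (g : G), f (b * g * c) = f g) {x y g : G} (c d : ↥B)
    (e : y = c * x * d) : rsum B y f g = rsum B x f g := by
  subst e
  refine Fintype.sum_equiv (Equiv.mulRight c) _ _ fun b => ?_
  rw [Equiv.coe_mulRight, Subgroup.coe_mul, show g * b * ((c : G) * x * d) = g * (b * c) * x * d by group,
    inv_right hf]

end sums

section weyl

variable [Finite G] (P : BNPair G) [hN : ((P.B ⊓ P.N).subgroupOf P.N).Normal]

theorem exSys : ExSys (weylS P) := ⟨weylS_sq, closure_weylS, weyl_exchange⟩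

/-- The Weyl element of the cell of `g`. -/
noncomputable def cls (g : G) : WeylQ P :=
  QuotientGroup.mk ⟨(Linear.BN.bruhat (P := P) g).choose, (Linear.BN.bruhat (P := P) g).choose_spec.1⟩

variable {P}

theorem cls_eq {g n : G} (hn : n ∈ P.N) (h : g ∈ Linear.BN.cell P n) : cls P g = QuotientGroup.mk ⟨n, hn⟩ :=
  mk_eq_mk.2 (Linear.BN.same_of_mem_cell (Linear.BN.bruhat (P := P) g).choose_spec.1 hn
    (Linear.BN.bruhat (P := P) g).choose_spec.2 h)

theorem exists_cls (g : G) : ∃ n, ∃ hn : n ∈ P.N, g ∈ Linear.BN.cell P n ∧ cls P g = QuotientGroup.mk ⟨n, hn⟩ := by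
  obtain ⟨n, hn, h⟩ := Linear.BN.bruhat (P := P) g
  exact ⟨n, hn, h, cls_eq hn h⟩

theorem cls_mk (n : P.N) : cls P (n : G) = QuotientGroup.mk n := cls_eq n.2 (Linear.BN.self_mem_cell _)

theorem cls_surjective : Function.Surjective (cls P) := fun w => by
  induction w using QuotientGroup.induction_on with
  | _ n => exact ⟨_, cls_mk n⟩

theorem cls_inv (g : G) : cls P g⁻¹ = (cls P g)⁻¹ := by
  obtain ⟨n, hn, h, e⟩ := exists_cls (P := P) g
  rw [e, cls_eq (inv_mem hn) (Linear.BN.inv_mem_cell h), ← QuotientGroup.mk_inv]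
  rfl

theorem cls_bi (b c : ↥P.B) (g : G) : cls P (b * g * c) = cls P g := by
  obtain ⟨n, hn, h, e⟩ := exists_cls (P := P) g
  rw [e, cls_eq hn (Linear.BN.mul_mem_cell h b.2 c.2)]

theorem len_mk (n : P.N) : len (weylS P) (QuotientGroup.mk n) = Linear.BN.len P (n : G) := by
  obtain ⟨a, ha, e⟩ := exists_len (exSys P) (QuotientGroup.mk n)
  have h := (wreduced_iff a).1 (wreduced_of_len (exSys P) (by rw [e, ha]))
  rw [wprod_weylS, mk_eq_mk] at e
  rw [← ha, ← h]
  exact Linear.BN.len_congr e

variable (P) in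
/-- Functions of the cell. -/
noncomputable def lift : (WeylQ P → ℂ) →ₗ[ℂ] (G → ℂ) := LinearMap.funLeft ℂ ℂ (cls P)

theorem lift_apply (z : WeylQ P → ℂ) (g : G) : lift P z g = z (cls P g) := rfl

theorem lift_bi (z : WeylQ P → ℂ) (b c : ↥P.B) (g : G) : lift P z (b * g * c) = lift P z g :=
  congrArg z (cls_bi b c g)

variable [Fintype ↥P.B] {q : ℕ}
  (hq : ∀ s ∈ P.S, q * Nat.card {b : ↥P.B // s * (b : G) * s⁻¹ ∈ P.B} = Nat.card ↥P.B)

variable (P) in
/-- The normalising constant. -/
noncomputable def cn (q : ℕ) : ℂ := (Nat.card ↥P.B : ℂ) / q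

include hq

theorem q_ne_zero {s : G} (hs : s ∈ P.S) : (q : ℂ) ≠ 0 := by
  intro h
  have := hq s hs
  rw [Nat.cast_eq_zero.1 h, zero_mul] at this
  exact Nat.card_pos.ne this

theorem lsum_gen (z : WeylQ P → ℂ) (s : P.S) (g : G) :
    lsum P.B (s : G) (lift P z) g = cn P q * lift P (L (weylS P) (q : ℝ) s z) g := by
  classical
  have hq0 := q_ne_zero hq s.2
  obtain ⟨n, hn, hg, he⟩ := exists_cls (P := P) g
  have hsn : (s : G) * n ∈ P.N := mul_mem (P.subset s.2) hn
  have hmk : weylS P s * cls P g = QuotientGroup.mk ⟨(s : G) * n, hsn⟩ := by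
    rw [he, weylS, ← QuotientGroup.mk_mul]; rfl
  have hl : len (weylS P) (cls P g) = Linear.BN.len P n := by rw [he, len_mk]
  have hl' : len (weylS P) (weylS P s * cls P g) = Linear.BN.len P ((s : G) * n) := by rw [hmk, len_mk]
  rw [lift_apply, L_apply, Complex.ofReal_natCast, hl, hl', lsum, cn]
  by_cases hd : Linear.BN.len P ((s : G) * n) < Linear.BN.len P n
  · rw [if_pos hd]
    set m := (s : G) * n with hm
    have hsame := Linear.BN.same_sq_mul s.2 hn
    rw [← hm] at hsame
    rw [Linear.BN.Same.cell_eq hsame] at hg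
    obtain ⟨c, hc, d, hd', rfl⟩ := Linear.BN.mem_cell.1 hg
    have hle : Linear.BN.len P m ≤ Linear.BN.len P ((s : G) * m) := by
      rw [← Linear.BN.len_congr hsame]; omega
    have hkey : ∀ b : ↥P.B, lift P z ((s : G) * b * (c * ((s : G) * m) * d)) =
        if (s : G) * (b * c) * (s : G)⁻¹ ∈ P.B then z (QuotientGroup.mk ⟨m, hsn⟩) else z (cls P (c * ((s : G) * m) * d)) := by
      intro b
      have e : (s : G) * b * (c * ((s : G) * m) * d) = ((s : G) * (b * c) * s) * (m * d) := by group
      have e2 : (s : G) * (b * c) * s = ((s : G) * (b * c) * (s : G)⁻¹) * ((s : G) * s) := by group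
      have hs2 := P.sq_mem s s.2
      rw [lift_apply, e]
      split_ifs with h
      · refine congrArg z (cls_eq hsn (Linear.BN.mem_cell.2 ⟨(s : G) * (b * c) * s, ?_, d, hd', by group⟩))
        rw [e2]; exact mul_mem h hs2
      · refine congrArg z ?_
        have hy : m * d ∈ Linear.BN.cell P m := Linear.BN.mem_cell.2 ⟨1, one_mem _, d, hd', by group⟩
        have hx : (s : G) * (b * c) * s ∈ Linear.BN.cell P s := by
          rcases P.mul_mem_union s s.2 s (P.subset s.2) (b * c) (mul_mem b.2 hc) with h' | h'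
          · obtain ⟨u, hu, v, hv, h''⟩ := Linear.BN.mem_cell.1 h'
            refine absurd ?_ h
            have : (s : G) * (b * c) * (s : G)⁻¹ = ((s : G) * (b * c) * s) * ((s : G) * s)⁻¹ := by group
            rw [this, h'']
            exact mul_mem (mul_mem (mul_mem hu hs2) hv) (inv_mem hs2)
          · exact h'
        rw [cls_eq (mul_mem (P.subset s.2) hsn) (Linear.BN.cell_mul_of_le s.2 hsn hle hx hy),
          cls_eq (mul_mem (P.subset s.2) hsn) hg]
    have hN0 : (q : ℂ) * (Finset.univ.filter fun b : ↥P.B => (s : G) * b * (s : G)⁻¹ ∈ P.B).card =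
        (Nat.card ↥P.B : ℂ) := by
      rw [← Fintype.card_subtype, ← Nat.card_eq_fintype_card, ← Nat.cast_mul, hq _ s.2]
    rw [Finset.sum_congr rfl fun b _ => hkey b, hmk,
      Fintype.sum_equiv (Equiv.mulRight (⟨c, hc⟩ : ↥P.B))
        (fun b : ↥P.B => if (s : G) * (b * c) * (s : G)⁻¹ ∈ P.B then z (QuotientGroup.mk ⟨m, hsn⟩)
          else z (cls P (c * ((s : G) * m) * d)))
        (fun b : ↥P.B => if (s : G) * b * (s : G)⁻¹ ∈ P.B then z (QuotientGroup.mk ⟨m, hsn⟩)
          else z (cls P (c * ((s : G) * m) * d))) (fun b => rfl),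
      Finset.sum_ite, Finset.sum_const, Finset.sum_const, nsmul_eq_mul, nsmul_eq_mul]
    have hsplit := Finset.card_filter_add_card_filter_not (s := (Finset.univ : Finset ↥P.B))
      (fun b : ↥P.B => (s : G) * b * (s : G)⁻¹ ∈ P.B)
    rw [Finset.card_univ, ← Nat.card_eq_fintype_card] at hsplit
    rw [← hsplit, Nat.cast_add] at hN0 ⊢
    field_simp
    linear_combination (z (QuotientGroup.mk ⟨m, hsn⟩) - z (cls P (c * ((s : G) * m) * d))) * hN0
  · rw [if_neg hd, hmk]
    have hall : ∀ b : ↥P.B, lift P z ((s : G) * b * g) = z (QuotientGroup.mk ⟨(s : G) * n, hsn⟩) := fun b =>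
      congrArg z (cls_eq hsn (Linear.BN.cell_mul_of_le s.2 hn (not_lt.1 hd)
        (Linear.BN.mem_cell.2 ⟨1, one_mem _, b, b.2, by group⟩) hg))
    rw [Finset.sum_congr rfl fun b _ => hall b, Finset.sum_const, Finset.card_univ, nsmul_eq_mul,
      ← Nat.card_eq_fintype_card]
    field_simp

theorem rsum_gen (z : WeylQ P → ℂ) (s : P.S) (g : G) :
    rsum P.B (s : G) (lift P z) g = cn P q * lift P (R (weylS P) (q : ℝ) s z) g := by
  have h := lsum_gen hq (flipW z) s g⁻¹
  rw [lift_apply, cls_inv] at h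
  rw [lift_apply, R_flip, flipW_apply, ← h, rsum, lsum]
  refine Fintype.sum_equiv ((Equiv.inv _).trans (Equiv.mulLeft (⟨_, P.sq_mem s s.2⟩ : ↥P.B)⁻¹)) _ _ fun b => ?_
  simp only [Equiv.trans_apply, Equiv.inv_apply, Equiv.coe_mulLeft, Subgroup.coe_mul, InvMemClass.coe_inv]
  rw [lift_apply, lift_apply, flipW_apply, ← cls_inv]
  exact congrArg (fun x => z (cls P x)) (by group)

theorem lift_mem (hS : Nonempty P.S → True) {z : WeylQ P → ℂ} (hz : z ∈ centre (weylS P) (q : ℝ)) :
    lift P z ∈ gCentre P.B := by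
  refine ⟨lift_bi z, ?_⟩
  have hbi := lift_bi z
  have hs : ∀ (s : P.S) g, lsum P.B (s : G) (lift P z) g = rsum P.B (s : G) (lift P z) g := fun s g => by
    rw [lsum_gen hq, rsum_gen hq, mem_centre.1 hz]
  have main : ∀ k, ∀ n ∈ P.N, Linear.BN.len P n = k → ∀ g,
      lsum P.B n (lift P z) g = rsum P.B n (lift P z) g := by
    intro k
    induction k using Nat.strong_induction_on with
    | _ k ih =>
      intro n hn hk g
      rcases Nat.eq_zero_or_pos k with rfl | hpos
      · have hnB := (Linear.BN.mem_T_of_len_eq_zero hn hk).1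
        rw [lsum_coset hbi ⟨n, hnB⟩ 1 (show n = n * 1 * ((1 : ↥P.B) : G) by simp),
          rsum_coset hbi ⟨n, hnB⟩ 1 (show n = n * 1 * ((1 : ↥P.B) : G) by simp), lsum, rsum]
        simp only [one_mul, mul_one, inv_left hbi, inv_right hbi]
      · obtain ⟨s, hsS, m, hm, hlt, hsm⟩ := Linear.BN.exists_head hn (hk ▸ hpos)
        have hle : Linear.BN.len P m ≤ Linear.BN.len P (s * m) := by
          rw [Linear.BN.len_congr hsm]; omega
        have hin : ∀ b : ↥P.B, ∃ c d : ↥P.B, s * b * m = c * n * d := fun b => by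
          have h : s * (b : G) * m ∈ Linear.BN.cell P n := by
            rw [← hsm.cell_eq]
            exact Linear.BN.mul_mem_cell_of_le _ m rfl hm s hsS hle b b.2
          obtain ⟨c, hc, d, hd, e⟩ := Linear.BN.mem_cell.1 h
          exact ⟨⟨c, hc⟩, ⟨d, hd⟩, e⟩
        have hB : (Nat.card ↥P.B : ℂ) ≠ 0 := Nat.cast_ne_zero.2 Nat.card_pos.ne'
        apply mul_left_cancel₀ hB
        rw [Nat.card_eq_fintype_card, ← nsmul_eq_mul, ← nsmul_eq_mul, ← Finset.card_univ,
          ← Finset.sum_const, ← Finset.sum_const]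
        calc ∑ _b : ↥P.B, lsum P.B n (lift P z) g
            = ∑ b : ↥P.B, lsum P.B (s * b * m) (lift P z) g := Finset.sum_congr rfl fun b _ => by
              obtain ⟨c, d, e⟩ := hin b
              rw [lsum_coset hbi c d e]
          _ = ∑ c : ↥P.B, lsum P.B s (lift P z) (m * c * g) := by
              simp only [lsum]
              rw [Finset.sum_comm]
              simp only [mul_assoc]
          _ = ∑ c : ↥P.B, rsum P.B s (lift P z) (m * c * g) := Finset.sum_congr rfl fun c _ => hs ⟨s, hsS⟩ _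
          _ = ∑ b : ↥P.B, lsum P.B m (lift P z) (g * b * s) := by
              simp only [lsum, rsum]
              rw [Finset.sum_comm]
              simp only [mul_assoc]
          _ = ∑ b : ↥P.B, rsum P.B m (lift P z) (g * b * s) :=
              Finset.sum_congr rfl fun b _ => ih _ (hk ▸ hlt) m hm rfl _
          _ = ∑ c : ↥P.B, rsum P.B (s * c * m) (lift P z) g := by
              simp only [rsum]
              rw [Finset.sum_comm]
              simp only [mul_assoc]
          _ = ∑ _b : ↥P.B, rsum P.B n (lift P z) g := Finset.sum_congr rfl fun b _ => by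
              obtain ⟨c, d, e⟩ := hin b
              rw [rsum_coset hbi c d e]
  intro x g
  obtain ⟨n, hn, hx⟩ := Linear.BN.bruhat (P := P) x
  obtain ⟨c, hc, d, hd, e⟩ := Linear.BN.mem_cell.1 hx
  rw [lsum_coset hbi ⟨c, hc⟩ ⟨d, hd⟩ e, rsum_coset hbi ⟨c, hc⟩ ⟨d, hd⟩ e]
  exact main _ n hn rfl g

theorem finrank_gCentre : finrank ℂ (gCentre P.B) = finrank ℂ (centre (weylS P) (q : ℝ)) := by
  have hinj : Function.Injective (lift P) :=
    LinearMap.funLeft_injective_of_surjective ℂ ℂ _ cls_surjective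
  have hmap : (centre (weylS P) (q : ℝ)).map (lift P) = gCentre P.B := by
    refine le_antisymm ?_ fun f hf => ?_
    · rintro _ ⟨z, hz, rfl⟩; exact lift_mem hq (fun _ => trivial) hz
    · let z : WeylQ P → ℂ := fun w => f (Quotient.out w : P.N)
      have hfz : lift P z = f := by
        funext g
        obtain ⟨n, hn, hg, e⟩ := exists_cls (P := P) g
        show f ((Quotient.out (cls P g) : P.N) : G) = f g
        have hsame : Linear.BN.Same P n ((Quotient.out (cls P g) : P.N) : G) :=
          mk_eq_mk.1 ((e.symm.trans (QuotientGroup.out_eq' (cls P g)).symm) :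
            (QuotientGroup.mk (⟨n, hn⟩ : P.N) : WeylQ P) = QuotientGroup.mk (Quotient.out (cls P g)))
        rw [hsame.cell_eq] at hg
        obtain ⟨b, hb, c, hc, e'⟩ := Linear.BN.mem_cell.1 hg
        conv_rhs => rw [e']
        exact (hf.1 ⟨b, hb⟩ ⟨c, hc⟩ _).symm
      refine ⟨z, mem_centre.2 fun s => ?_, hfz⟩
      refine funext fun w => ?_
      obtain ⟨g, rfl⟩ := cls_surjective (P := P) w
      have h := hf.2 (s : G) g
      rw [← hfz, lsum_gen hq, rsum_gen hq] at h
      exact mul_left_cancel₀ (div_ne_zero (Nat.cast_ne_zero.2 Nat.card_pos.ne') (q_ne_zero hq s.2)) h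
  rw [← hmap]
  exact (Submodule.equivMapOfInjective _ hinj _).finrank_eq.symm

end weyl

section chars

variable [Fintype G] {B : Subgroup G} [Fintype ↥B]

variable (B) in
/-- Average over `g B`. -/
def cosetSum : (G → ℂ) →ₗ[ℂ] (G → ℂ) where
  toFun f g := ∑ b : ↥B, f (g * b)
  map_add' f f' := funext fun g => by simp [Finset.sum_add_distrib]
  map_smul' k f := funext fun g => by simp [Finset.mul_sum]

/-- Average over conjugates. -/
def classSum : (G → ℂ) →ₗ[ℂ] (G → ℂ) where
  toFun f g := ∑ x : G, f (x * g * x⁻¹)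
  map_add' f f' := funext fun g => by simp [Finset.sum_add_distrib]
  map_smul' k f := funext fun g => by simp [Finset.mul_sum]

theorem isClassFunction_classSum (f : G → ℂ) : IsClassFunction G (classSum f) := fun g y => by
  refine Fintype.sum_equiv (Equiv.mulRight y) _ _ fun x => ?_
  rw [Equiv.coe_mulRight]
  exact congrArg f (by group)

theorem irr_comm {χ : G → ℂ} (hχ : IsIrrCharacter G χ) (a b : G) : χ (a * b) = χ (b * a) := by
  have := hχ.isCharacter.isClassFunction (a * b) b
  rwa [show b * (a * b) * b⁻¹ = b * a by group, eq_comm] at this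

theorem cosetSum_mem {χ : G → ℂ} (hχ : IsIrrCharacter G χ) : cosetSum B χ ∈ gCentre B := by
  refine ⟨fun b c g => ?_, fun x g => ?_⟩
  · show ∑ d : ↥B, χ (b * g * c * d) = ∑ d : ↥B, χ (g * d)
    refine Fintype.sum_equiv ((Equiv.mulLeft c).trans (Equiv.mulRight b)) _ _ fun d => ?_
    simp only [Equiv.trans_apply, Equiv.coe_mulLeft, Equiv.coe_mulRight, Subgroup.coe_mul]
    rw [show (b : G) * g * c * d = b * (g * (c * d)) by group, irr_comm hχ]
    exact congrArg χ (by group)
  · show ∑ b : ↥B, ∑ c : ↥B, χ (x * b * g * c) = ∑ b : ↥B, ∑ c : ↥B, χ (g * b * x * c)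
    rw [Finset.sum_comm]
    refine Finset.sum_congr rfl fun b _ => Finset.sum_congr rfl fun c _ => ?_
    rw [show x * (c : G) * g * b = (x * c) * (g * b) by group, irr_comm hχ]
    exact congrArg χ (by group)

theorem classSum_cosetSum {χ : G → ℂ} (hχ : IsIrrCharacter G χ) :
    classSum (cosetSum B χ) = ((Nat.card G : ℂ) * (∑ b : ↥B, χ (b : G)) / χ 1) • χ := by
  funext g
  show ∑ x : G, ∑ b : ↥B, χ (x * g * x⁻¹ * b) = _
  rw [Finset.sum_comm, Pi.smul_apply, smul_eq_mul]
  have e : ∀ b : ↥B, ∑ x : G, χ (x * g * x⁻¹ * b) = (Nat.card G : ℂ) * χ (b : G) * χ g / χ 1 := fun b => by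
    rw [← sum_char_mul_conj hχ]
    exact Finset.sum_congr rfl fun x _ => irr_comm hχ _ _
  rw [Finset.sum_congr rfl fun b _ => e b, ← Finset.sum_div, ← Finset.sum_mul, ← Finset.mul_sum]
  ring

theorem eq_zero_of_average {f : G → ℂ} (hf : f ∈ gCentre B) (h : cosetSum B (classSum f) = 0) : f = 0 := by
  obtain ⟨hbi, hcomm⟩ := hf
  set u : G → G → ℂ := fun x g => ∑ b : ↥B, f (x * b * g) with hu
  have h1 : ∑ g, classSum f g * conj (f g) = 0 := by
    have e0 : ∑ g, cosetSum B (classSum f) g * conj (f g) = 0 := by simp [h]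
    have e : ∑ g, cosetSum B (classSum f) g * conj (f g) =
        (Nat.card ↥B : ℂ) * ∑ g, classSum f g * conj (f g) := by
      show ∑ g, (∑ b : ↥B, classSum f (g * b)) * conj (f g) = _
      simp only [Finset.sum_mul]
      rw [Finset.sum_comm, Nat.card_eq_fintype_card, ← nsmul_eq_mul, ← Finset.card_univ, ← Finset.sum_const]
      refine Finset.sum_congr rfl fun b _ => Fintype.sum_equiv (Equiv.mulRight (b : G)) _ _ fun g => ?_
      rw [Equiv.coe_mulRight, inv_right hbi]
    rw [e] at e0
    exact (mul_eq_zero.1 e0).resolve_left (Nat.cast_ne_zero.2 Nat.card_pos.ne')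
  have h2 : ∀ x, ∑ g, u x g * conj (u x g) =
      (Nat.card ↥B : ℂ) * (Nat.card ↥B : ℂ) * ∑ g, f (x * g * x⁻¹) * conj (f g) := by
    intro x
    have e1 : ∑ g, f (x * g * x⁻¹) * conj (f g) = ∑ g, f (x * g) * conj (f (g * x)) :=
      Fintype.sum_equiv (Equiv.mulRight x⁻¹) _ _ fun g => by
        rw [Equiv.coe_mulRight, ← mul_assoc, inv_mul_cancel_right]
    have e2 : ∀ g, u x g * conj (u x g) = ∑ b : ↥B, ∑ c : ↥B, f (x * b * g) * conj (f (g * c * x)) := by
      intro g
      rw [← Finset.sum_mul_sum, ← map_sum]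
      congr 2
      exact hcomm x g
    rw [e1, Finset.sum_congr rfl fun g _ => e2 g, Finset.sum_comm]
    simp only [Finset.sum_comm (s := (Finset.univ : Finset G))]
    have e3 : ∀ b c : ↥B, ∑ g, f (x * b * g) * conj (f (g * c * x)) = ∑ g, f (x * g) * conj (f (g * x)) :=
      fun b c => Fintype.sum_equiv ((Equiv.mulLeft (b : G)).trans (Equiv.mulRight (c : G))) _ _ fun g => by
        simp only [Equiv.trans_apply, Equiv.coe_mulLeft, Equiv.coe_mulRight]
        rw [show x * (b * g * c) = x * b * g * c by group, inv_right hbi,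
          show (b : G) * g * c * x = b * (g * c * x) by group, inv_left hbi]
    rw [Finset.sum_congr rfl fun b _ => Finset.sum_congr rfl fun c _ => e3 b c]
    simp only [Finset.sum_const, Finset.card_univ, nsmul_eq_mul, ← Nat.card_eq_fintype_card]
    ring
  have h3 : ∑ x, ∑ g, u x g * conj (u x g) = 0 := by
    rw [Finset.sum_congr rfl fun x _ => h2 x, ← Finset.mul_sum, Finset.sum_comm]
    simp only [← Finset.sum_mul]
    show _ * (∑ g, classSum f g * conj (f g)) = 0
    rw [h1, mul_zero]
  simp only [Complex.mul_conj', ← Complex.ofReal_pow, ← Complex.ofReal_sum, Complex.ofReal_eq_zero] at h3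
  funext g
  have h4 := (Finset.sum_eq_zero_iff_of_nonneg fun x _ => Finset.sum_nonneg fun g _ => by positivity).1 h3 1
    (Finset.mem_univ _)
  have h5 := (Finset.sum_eq_zero_iff_of_nonneg fun g _ => by positivity).1 h4 g (Finset.mem_univ _)
  have h6 : u 1 g = 0 := by simpa using h5
  simp only [hu, one_mul, inv_left hbi, Finset.sum_const, Finset.card_univ, nsmul_eq_mul, mul_eq_zero] at h6
  exact h6.resolve_left (Nat.cast_ne_zero.2 Fintype.card_ne_zero)

theorem constituent_iff (χ : IrrCharacter G) :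
    (∃ φ : G → ℂ, IsCharacter G φ ∧ fixedPointCharacter B = (χ : G → ℂ) + φ) ↔
      ∑ b : ↥B, (χ : G → ℂ) b ≠ 0 := by
  classical
  let := Fintype.ofFinite (G ⧸ B)
  have hπ : IsCharacter G (fixedPointCharacter B) := by
    have e : fixedPointCharacter B = (Cfsg.permRep ℂ G (G ⧸ B)).character := by
      rw [Cfsg.Agent.PermCharacter.character_permRep]; rfl
    rw [e]; exact isCharacter_character _
  have hcl := χ.2.isCharacter.isClassFunction
  have hinner : classInner (fixedPointCharacter B) (χ : G → ℂ) =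
      (Nat.card G : ℂ)⁻¹ * ((B.index : ℂ) * conj (∑ b : ↥B, (χ : G → ℂ) b)) := by
    rw [classInner, sum_fixedPoint_mul B (χ := fun g => conj ((χ : G → ℂ) g))
      (fun g x => congrArg _ (hcl g x)), map_sum]
  have hz : classInner (fixedPointCharacter B) (χ : G → ℂ) ≠ 0 ↔ ∑ b : ↥B, (χ : G → ℂ) b ≠ 0 := by
    rw [hinner]
    simp [B.index_ne_zero_of_finite, ← map_sum]
  rw [← hz]
  constructor
  · rintro ⟨φ, hφ, e⟩ h
    obtain ⟨n, hn⟩ := hφ.exists_nat_classInner χ.2.isCharacter
    rw [e, classInner_add_left, classInner_irr_self χ.2, hn] at h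
    norm_cast at h
    omega
  · intro h
    obtain ⟨hc, hall⟩ := isCharacter_iff.1 hπ
    refine ⟨fixedPointCharacter B - (χ : G → ℂ), isCharacter_iff.2 ⟨fun g k => ?_, fun ψ hψ => ?_⟩, by abel⟩
    · simp only [Pi.sub_apply, hc g k, hcl g k]
    · obtain ⟨n, hn⟩ := hall ψ hψ
      rw [classInner_sub_left, hn]
      by_cases he : (χ : G → ℂ) = ψ
      · subst he
        rw [hn, Nat.cast_ne_zero] at h
        exact ⟨n - 1, by rw [classInner_irr_self χ.2, Nat.cast_sub (Nat.one_le_iff_ne_zero.2 h), Nat.cast_one]⟩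
      · exact ⟨n, by rw [classInner_irr_ne χ.2 hψ he, sub_zero]⟩

theorem card_constituents :
    Nat.card {χ : IrrCharacter G // ∑ b : ↥B, (χ : G → ℂ) b ≠ 0} = finrank ℂ (gCentre B) := by
  classical
  haveI := Fintype.ofFinite (IrrCharacter G)
  set fc : {χ : IrrCharacter G // ∑ b : ↥B, (χ : G → ℂ) b ≠ 0} → (G → ℂ) :=
    fun χ => cosetSum B (χ.1 : G → ℂ) with hfc
  have hdeg : ∀ χ : IrrCharacter G, (χ : G → ℂ) 1 ≠ 0 := fun χ h =>
    (by
      have h0 := χ.2.isCharacter.eq_zero_of_degree h
      have := classInner_irr_self χ.2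
      rw [h0, classInner_zero_left] at this
      exact zero_ne_one this)
  have hli : LinearIndependent ℂ fc := by
    refine LinearIndependent.of_comp classSum ?_
    have h2 := (linearIndependent_irr (G := G)).comp
      (Subtype.val : {χ : IrrCharacter G // ∑ b : ↥B, (χ : G → ℂ) b ≠ 0} → IrrCharacter G) Subtype.val_injective
    have h3 := h2.units_smul fun χ => Units.mk0
      ((Nat.card G : ℂ) * (∑ b : ↥B, (χ.1 : G → ℂ) b) / (χ.1 : G → ℂ) 1)
      (div_ne_zero (mul_ne_zero (Nat.cast_ne_zero.2 Nat.card_pos.ne') χ.2) (hdeg χ.1))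
    convert h3 using 1
    funext χ
    simp only [hfc, Function.comp_apply, classSum_cosetSum χ.1.2]
    rfl
  have hle : Submodule.span ℂ (Set.range fc) ≤ gCentre B := by
    refine Submodule.span_le.2 ?_
    rintro _ ⟨χ, rfl⟩; exact cosetSum_mem χ.1.2
  have hge : finrank ℂ (gCentre B) ≤ finrank ℂ (Submodule.span ℂ (Set.range fc)) := by
    have hmem : ∀ f : ↥(gCentre B), cosetSum B (classSum (f : G → ℂ)) ∈ Submodule.span ℂ (Set.range fc) := by
      intro f
      rw [eq_sum_classInner (isClassFunction_classSum (f : G → ℂ)), map_sum]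
      refine Submodule.sum_mem _ fun χ _ => ?_
      rw [map_smul]
      refine Submodule.smul_mem _ _ ?_
      by_cases h : ∑ b : ↥B, (χ : G → ℂ) b = 0
      · have : cosetSum B (χ : G → ℂ) = 0 := eq_zero_of_average (cosetSum_mem χ.2) (by
          rw [classSum_cosetSum χ.2, h, mul_zero, zero_div, zero_smul, map_zero])
        rw [this]; exact Submodule.zero_mem _
      · exact Submodule.subset_span ⟨⟨χ, h⟩, rfl⟩
    refine LinearMap.finrank_le_finrank_of_injective
      (f := ((cosetSum B ∘ₗ classSum) ∘ₗ (gCentre B).subtype).codRestrict _ hmem) ?_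
    rw [← LinearMap.ker_eq_bot, LinearMap.ker_eq_bot']
    intro f hf
    exact Subtype.ext (eq_zero_of_average f.2 (congrArg Subtype.val hf))
  rw [Nat.card_eq_fintype_card, ← finrank_span_eq_card hli]
  exact le_antisymm (Submodule.finrank_mono hle) hge

end chars

/-- The number of constituents of the permutation character on the cosets of `B`. -/
theorem card_constituents_borel [Fintype G] (P : BNPair G) [hN : ((P.B ⊓ P.N).subgroupOf P.N).Normal] {q : ℕ}
    (hq0 : 0 < q) (hq : ∀ s ∈ P.S, q * Nat.card {b : ↥P.B // s * (b : G) * s⁻¹ ∈ P.B} = Nat.card ↥P.B) :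
    Nat.card {χ : IrrCharacter G // ∃ φ : G → ℂ, IsCharacter G φ ∧ fixedPointCharacter P.B = (χ : G → ℂ) + φ} =
      Nat.card (ConjClasses (WeylQ P)) := by
  classical
  haveI := Fintype.ofFinite ↥P.B
  haveI := Fintype.ofFinite (WeylQ P)
  haveI := Fintype.ofFinite P.S
  rw [Nat.card_congr (Equiv.subtypeEquivRight fun χ => constituent_iff (B := P.B) χ), card_constituents,
    finrank_gCentre hq, finrank_centre_const (exSys P) (Nat.cast_pos.2 hq0), finrank_centre_one (exSys P)]

end Cfsg.Lib.Chev.Hecke
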