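import Mathlib
import Cfsg.Agent.Lib.Chev.Hecke.Group
import Cfsg.Agent.Lib.Chev.CoxeterChev
import Cfsg.Agent.Lib.Chev.NormalForm

/-!
The constituents of the permutation character of a finite Chevalley group on the cosets of its Borel subgroup.
-/

set_option autoImplicit false
set_option linter.unusedSectionVars false

namespace Cfsg.Lib.Chev.Hecke

open Cfsg Cfsg.Lie Cfsg.Lib.Chev

variable {D : ChevalleyDatum} {T : Tbl} {F : Type*} [Field F] (C : Cert D T) (K : FullCert D T)

include C K in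
/-- The index of `B ∩ s⁻¹ B s` in `B`. -/
theorem card_borel_split [Finite F] {s : ↥(D.group F)} (hs : s ∈ (bnPair C K F).S) :
    Nat.card F * Nat.card {b : ↥(bnPair C K F).B // s * (b : ↥(D.group F)) * s⁻¹ ∈ (bnPair C K F).B} =
      Nat.card ↥(bnPair C K F).B := by
  classical
  obtain ⟨i, hi, e⟩ := hs
  rw [eq_nu_iff C hi] at e
  have hp := C.spec.simp_lt i hi
  have hev := nroots_even C
  have hw : IsWord D [i] := fun j hj => by simp only [List.mem_singleton] at hj; exact hj ▸ hi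
  have hwn : wnu C F [i] = nu C i := by simp [wnu]
  have hX : ∀ c ∈ signPart C K F [i] true (D.nroots / 2), ∃ t, c = xg C (T.simp' i) t := by
    intro c hc
    induction hc using Subgroup.closure_induction with
    | mem x hx =>
      obtain ⟨r, t, h1, h2, h3, rfl⟩ := hx
      refine ⟨t, ?_⟩
      by_cases hr : r = T.simp' i
      · rw [hr]
      · have h4 := K.refl_pos hi h2 (by omega) hr
        have h5 : 2 * T.refl' i r < D.nroots := of_decide_eq_true h3
        omega
    | one => exact ⟨0, (xg_zero C _).symm⟩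
    | mul a b _ _ ha hb =>
      obtain ⟨t, rfl⟩ := ha; obtain ⟨u, rfl⟩ := hb
      exact ⟨t + u, xg_add C _ _ _⟩
    | inv a _ ha =>
      obtain ⟨t, rfl⟩ := ha
      exact ⟨-t, xg_inv C _ _⟩
  let x : F → ↥(bnPair C K F).B := fun t =>
    ⟨⟨xg C (T.simp' i) t, xg_mem_group C _ _⟩, xg_mem_borel C hp (K.simple_pos hi) t⟩
  have hmem : ∀ b : ↥(bnPair C K F).B, s * (b : ↥(D.group F)) * s⁻¹ ∈ (bnPair C K F).B ↔
      nu C i * ((b : ↥(D.group F)) : GL D.Idx F) * (nu C i)⁻¹ ∈ D.borelSubgroup F := fun b => by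
    rw [← e]
    rfl
  rw [← Nat.card_prod]
  refine Nat.card_eq_of_bijective (fun p => x p.1 * p.2.1) ⟨?_, fun b => ?_⟩
  · rintro ⟨t, b, hb⟩ ⟨u, b', hb'⟩ he
    rw [hmem] at hb hb'
    have he' : xg C (T.simp' i) t * ((b : ↥(D.group F)) : GL D.Idx F) =
        xg C (T.simp' i) u * ((b' : ↥(D.group F)) : GL D.Idx F) :=
      congrArg (fun y : ↥(bnPair C K F).B => ((y : ↥(D.group F)) : GL D.Idx F)) he
    have hd : nu C i * xg C (T.simp' i) (-u + t) * (nu C i)⁻¹ ∈ D.borelSubgroup F := by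
      have h1 : xg C (T.simp' i) (-u + t) =
          ((b' : ↥(D.group F)) : GL D.Idx F) * ((b : ↥(D.group F)) : GL D.Idx F)⁻¹ := by
        rw [← xg_add, ← xg_inv, eq_mul_inv_iff_mul_eq, mul_assoc, he', inv_mul_cancel_left]
      rw [h1, show ∀ a c d : GL D.Idx F, a * (c * d⁻¹) * a⁻¹ = (a * c * a⁻¹) * (a * d * a⁻¹)⁻¹ from
        fun a c d => by group]
      exact mul_mem hb' (inv_mem hb)
    rw [nu_conj_xg C hi hp, C.spec.refl_simple i hi] at hd
    have h0 := xg_neg_not_borel C (C.spec.neg_lt _ hp)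
      (by have := K.simple_pos hi; rw [C.neg_eq hp]; omega) hd
    have htu : t = u := by
      have := (mul_eq_zero.1 h0).resolve_left (eta_ne_zero T i (T.simp' i))
      linear_combination this
    subst htu
    exact Prod.ext rfl (Subtype.ext (mul_left_cancel he))
  · obtain ⟨u, hu, h, hh, eb⟩ := (mem_borel C).1 (show ((b : ↥(D.group F)) : GL D.Idx F) ∈ D.borelSubgroup F from b.2)
    obtain ⟨a, ha, c, hc, eu⟩ := upper_split C K [i] (D.nroots / 2) (k := D.nroots / 2) (F := F) (by omega) (by omega)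
      (g := u⁻¹) (by rw [← posUnipotent_eq C]; exact inv_mem hu)
    obtain ⟨t, rfl⟩ := hX c hc
    refine ⟨(-t, ⟨(x (-t))⁻¹ * b, ?_⟩), mul_inv_cancel_left _ _⟩
    rw [hmem]
    have e1 : (((((x (-t))⁻¹ * b : ↥(bnPair C K F).B) : ↥(D.group F))) : GL D.Idx F) = a⁻¹ * h := by
      show (xg C (T.simp' i) (-t))⁻¹ * ((b : ↥(D.group F)) : GL D.Idx F) = a⁻¹ * h
      rw [eb, show u = (u⁻¹)⁻¹ by group, eu, ← xg_inv C]
      group
    rw [e1, show nu C i * (a⁻¹ * h) * (nu C i)⁻¹ =
      (nu C i * a * (nu C i)⁻¹)⁻¹ * (nu C i * h * (nu C i)⁻¹) by group]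
    refine mul_mem (inv_mem (Subgroup.mem_sup_left ?_)) (Subgroup.mem_sup_right (conj_mem_diag C (nu_mem C i hi) hh).1)
    have := (signPart_conj C K hw (k := D.nroots / 2)).2 ha
    rwa [hwn] at this

include C K in
/-- The number of constituents. -/
theorem card_constituents_chev [Finite F] [Fintype ↥(D.group F)] (M : CoxeterMatrix (Fin D.rank))
    (hM : chkCox T (fun i : Fin D.rank => [i.val]) (fun i j => M i j) = true) :
    Nat.card {χ : IrrCharacter ↥(D.group F) // ∃ φ : ↥(D.group F) → ℂ, IsCharacter ↥(D.group F) φ ∧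
      fixedPointCharacter ((D.borelSubgroup F).subgroupOf (D.group F)) = (χ : ↥(D.group F) → ℂ) + φ} =
      Nat.card (ConjClasses M.Group) := by
  classical
  let P := bnPair C K F
  haveI hN : ((P.B ⊓ P.N).subgroupOf P.N).Normal :=
    ⟨fun t ht g => ⟨P.conj_mem _ g.2 _ ⟨ht.1, t.2⟩, (g * t * g⁻¹).2⟩⟩
  refine (card_constituents_borel P (q := Nat.card F) Nat.card_pos fun s hs => card_borel_split C K hs).trans ?_
  obtain ⟨φ, hsurj, hker, -⟩ := exists_monomial_hom C K F M hM
  let E : ↥P.N ≃* ↥(D.monomialSubgroup F) := Subgroup.subgroupOfEquivOfLe (monomial_le_group C)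
  have hk : (φ.comp E.toMonoidHom).ker = (P.B ⊓ P.N).subgroupOf P.N := by
    ext g
    rw [MonoidHom.mem_ker, MonoidHom.comp_apply, ← MonoidHom.mem_ker, hker, Subgroup.mem_subgroupOf,
      Subgroup.mem_subgroupOf, Subgroup.mem_inf, and_iff_left g.2, ← borel_inf_monomial C]
    exact ⟨fun h => h.1, fun h => ⟨h, g.2⟩⟩
  let ψ : WeylQ P ≃* M.Group := (QuotientGroup.quotientMulEquivOfEq hk.symm).trans
    (QuotientGroup.quotientKerEquivOfSurjective _ (hsurj.comp E.surjective))
  exact Nat.card_congr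
    { toFun := ConjClasses.map ψ.toMonoidHom
      invFun := ConjClasses.map ψ.symm.toMonoidHom
      left_inv := fun c => by
        obtain ⟨g, rfl⟩ := ConjClasses.exists_rep c
        exact congrArg ConjClasses.mk (ψ.symm_apply_apply g)
      right_inv := fun c => by
        obtain ⟨g, rfl⟩ := ConjClasses.exists_rep c
        exact congrArg ConjClasses.mk (ψ.apply_symm_apply g) }

end Cfsg.Lib.Chev.Hecke
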